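import Groth.Agent.InfNbhdLib.Flat
import Groth.Agent.IdealStalkLib.Cartier
import Groth.Agent.FlatLocus.PointScheme

/-!
Properties of stalk maps on infinitesimal neighbourhoods of a closed subscheme.
-/

set_option autoImplicit false
universe u
open CategoryTheory CategoryTheory.Limits AlgebraicGeometry TensorProduct IsLocalRing

namespace Groth.Agent.InfNbhdLib

theorem stalkIdeal_pow {S : Scheme.{u}} (I : S.IdealSheafData) (n : ℕ) (s : S) :
    IntMult.stalkIdeal (I ^ n) s = IntMult.stalkIdeal I s ^ n := by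
  obtain ⟨_, ⟨U : S.Opens, hU, rfl⟩, hs, -⟩ := S.isBasis_affineOpens.exists_subset_of_mem_open (Set.mem_univ s) isOpen_univ
  rw [IdealStalkLib.stalkIdeal_eq _ ⟨U, hU⟩ s hs, IdealStalkLib.stalkIdeal_eq _ ⟨U, hU⟩ s hs,
    Scheme.IdealSheafData.ideal_pow, Pi.pow_apply, Ideal.map_pow]

/-- The stalk map of the restriction to a closed subscheme of the base. -/
theorem exists_point_iff {P : ∀ {R S : Type u} [CommRing R] [CommRing S], (R →+* S) → Prop}
    (hP : RingHom.RespectsIso P) {X S : Scheme.{u}} (f : X ⟶ S) (J : S.IdealSheafData) (x : X)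
    (hx : f x ∈ J.support) :
    ∃ z : ↥(pullback f J.subschemeι), (P ((pullback.snd f J.subschemeι).stalkMap z).hom ↔
      letI := (f.stalkMap x).hom.toAlgebra
      P (algebraMap (↑(S.presheaf.stalk (f x)) ⧸ IntMult.stalkIdeal J (f x))
        ((↑(S.presheaf.stalk (f x)) ⧸ IntMult.stalkIdeal J (f x)) ⊗[↑(S.presheaf.stalk (f x))] ↑(X.presheaf.stalk x)))) := by
  obtain ⟨y, hy⟩ : f x ∈ Set.range J.subschemeι := by rw [Scheme.IdealSheafData.range_subschemeι]; exact hx
  obtain ⟨z, hz, hz'⟩ := Scheme.Pullback.exists_preimage_pullback x y hy.symm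
  refine ⟨z, ?_⟩
  subst hz
  let φX := (pullback.fst f J.subschemeι).stalkMap z
  let w := pullback.snd f J.subschemeι z
  have hpt : J.subschemeι w = f (pullback.fst f J.subschemeι z) := by
    rw [← Scheme.Hom.comp_apply, ← pullback.condition, Scheme.Hom.comp_apply]
  let φ : S.presheaf.stalk (f (pullback.fst f J.subschemeι z)) ⟶ J.subscheme.presheaf.stalk w :=
    (S.presheaf.stalkCongr (.of_eq hpt.symm)).hom ≫ J.subschemeι.stalkMap w
  have hcomp : φ ≫ (pullback.snd f J.subschemeι).stalkMap z = f.stalkMap _ ≫ φX := by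
    rw [← Scheme.Hom.stalkMap_comp, Scheme.Hom.stalkMap_congr_hom _ _ (pullback.condition (f := f) (g := J.subschemeι)) z,
      Scheme.Hom.stalkMap_comp, Category.assoc]
    rfl
  have hφs : Function.Surjective φ :=
    (J.subschemeι.stalkMap_surjective w).comp
      (ConcreteCategory.bijective_of_isIso (S.presheaf.stalkCongr (.of_eq hpt.symm)).hom).2
  have key : ∀ (a b : S) (e : b = a),
      (IntMult.stalkIdeal J b).comap (S.presheaf.stalkCongr (.of_eq e.symm)).hom.hom = IntMult.stalkIdeal J a := by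
    rintro a b rfl
    simp [TopCat.Presheaf.stalkCongr]
  have hker : RingHom.ker φ.hom = IntMult.stalkIdeal J (f (pullback.fst f J.subschemeι z)) := by
    rw [CommRingCat.hom_comp, ← RingHom.comap_ker, IdealStalkLib.ker_stalkMap_subschemeι]
    exact key _ _ hpt
  let I := IntMult.stalkIdeal J (f (pullback.fst f J.subschemeι z))
  let eA : ↑(S.presheaf.stalk (f (pullback.fst f J.subschemeι z))) ⧸ I →+* J.subscheme.presheaf.stalk w :=
    Ideal.Quotient.lift I φ.hom fun a ha => by rw [← RingHom.mem_ker, hker]; exact ha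
  have heA : Function.Bijective eA :=
    ⟨RingHom.lift_injective_of_ker_le_ideal I _ (le_of_eq hker), fun c => by
      obtain ⟨a, rfl⟩ := hφs c; exact ⟨Ideal.Quotient.mk I a, rfl⟩⟩
  letI := (f.stalkMap (pullback.fst f J.subschemeι z)).hom.toAlgebra
  refine FlatLocus.quotLift_iff hP I φX.hom ((pullback.fst f J.subschemeι).stalkMap_surjective z) ?_
    ((pullback.snd f J.subschemeι).stalkMap z).hom eA heA
    (RingHom.ext fun a => ConcreteCategory.congr_hom hcomp a)
  have h1 : RingHom.ker φX.hom = IntMult.stalkIdeal (J.comap f) (pullback.fst f J.subschemeι z) := by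
    have h2 := IdealStalkLib.ker_stalkMap_subschemeι (J.comap f) ((Scheme.IdealSheafData.comapIso J f).inv z)
    have h3 : (Scheme.IdealSheafData.comapIso J f).inv ≫ (J.comap f).subschemeι = pullback.fst f J.subschemeι :=
      Scheme.IdealSheafData.comapIso_inv_subschemeι J f
    have key2 : ∀ (g : pullback f J.subschemeι ⟶ X) (_ : g = (Scheme.IdealSheafData.comapIso J f).inv ≫ (J.comap f).subschemeι),
        RingHom.ker (g.stalkMap z).hom = IntMult.stalkIdeal (J.comap f) (g z) := by
      rintro g rfl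
      rw [Scheme.Hom.stalkMap_comp]
      erw [CommRingCat.hom_comp]
      rw [← RingHom.comap_ker,
        (RingHom.injective_iff_ker_eq_bot _).1 (ConcreteCategory.bijective_of_isIso ((Scheme.IdealSheafData.comapIso J f).inv.stalkMap z)).1,
        ← RingHom.ker_eq_comap_bot]
      exact h2
    exact key2 _ h3.symm
  rw [h1, IdealStalkLib.stalkIdeal_comap]
  rfl

theorem flat_stalkMap {X S : Scheme.{u}} (f : X ⟶ S) [IsLocallyNoetherian S] [LocallyOfFinitePresentation f]
    (I : S.IdealSheafData) (h : ∀ n : ℕ, Flat (pullback.snd f (I ^ (n + 1)).subschemeι)) (x : X) (hx : f x ∈ I.support) :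
    (f.stalkMap x).hom.Flat := by
  haveI : IsLocallyNoetherian X := LocallyOfFiniteType.isLocallyNoetherian f
  letI := (f.stalkMap x).hom.toAlgebra
  haveI : IsLocalHom (algebraMap (S.presheaf.stalk (f x)) (X.presheaf.stalk x)) := f.toLRSHom.prop x
  refine flat_of_flat_quotient_pow (S := X.presheaf.stalk x) (M := X.presheaf.stalk x) (IntMult.stalkIdeal I (f x))
    (IdealStalkLib.stalkIdeal_le_maximal I hx) fun n => ?_
  cases n with
  | zero =>
    haveI : Subsingleton (↑(S.presheaf.stalk (f x)) ⧸ IntMult.stalkIdeal I (f x) ^ 0) := by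
      rw [pow_zero, Ideal.one_eq_top]; exact Ideal.Quotient.subsingleton_iff.2 rfl
    infer_instance
  | succ n =>
    obtain ⟨z, hz⟩ := exists_point_iff (P := fun {R S} _ _ g => RingHom.Flat g) RingHom.Flat.respectsIso f (I ^ (n + 1)) x
      (by rw [Scheme.IdealSheafData.support_pow _ _ (Nat.succ_ne_zero n)]; exact hx)
    haveI := h n
    have h1 := hz.1 (Flat.stalkMap (pullback.snd f (I ^ (n + 1)).subschemeι) z)
    rw [stalkIdeal_pow] at h1
    exact RingHom.flat_algebraMap_iff.1 h1

theorem formallySmooth_stalkMap {X S : Scheme.{u}} (f : X ⟶ S) [IsLocallyNoetherian S] [LocallyOfFinitePresentation f]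
    (I : S.IdealSheafData) (h : ∀ n : ℕ, Smooth (pullback.snd f (I ^ (n + 1)).subschemeι)) (x : X) (hx : f x ∈ I.support) :
    (f.stalkMap x).hom.FormallySmooth := by
  refine FlatLocus.formallySmooth_stalkMap_of_quotient f x (flat_stalkMap f I (fun n => haveI := h n; inferInstance) x hx)
    (IntMult.stalkIdeal (I ^ (0 + 1)) (f x)) ?_ ?_
  · rw [stalkIdeal_pow, zero_add, pow_one]; exact IdealStalkLib.stalkIdeal_le_maximal I hx
  · obtain ⟨z, hz⟩ := exists_point_iff (P := fun {R S} _ _ g => RingHom.FormallySmooth g) RingHom.FormallySmooth.respectsIso f (I ^ (0 + 1)) x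
      (by rw [Scheme.IdealSheafData.support_pow _ _ (Nat.succ_ne_zero 0)]; exact hx)
    haveI := h 0
    exact hz.1 ((FlatLocus.exists_smooth_nhd_iff _ z).1 ⟨⊤, trivial, inferInstance⟩)

theorem formallyUnramified_stalkMap {X S : Scheme.{u}} (f : X ⟶ S) [LocallyOfFinitePresentation f]
    (I : S.IdealSheafData) (h : FormallyUnramified (pullback.snd f (I ^ (0 + 1)).subschemeι)) (x : X) (hx : f x ∈ I.support) :
    (f.stalkMap x).hom.FormallyUnramified := by
  refine FlatLocus.formallyUnramified_stalkMap_of_quotient f x (IntMult.stalkIdeal (I ^ (0 + 1)) (f x)) ?_ ?_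
  · rw [stalkIdeal_pow, zero_add, pow_one]; exact IdealStalkLib.stalkIdeal_le_maximal I hx
  · obtain ⟨z, hz⟩ := exists_point_iff (P := fun {R S} _ _ g => RingHom.FormallyUnramified g) RingHom.FormallyUnramified.respectsIso f (I ^ (0 + 1)) x
      (by rw [Scheme.IdealSheafData.support_pow _ _ (Nat.succ_ne_zero 0)]; exact hx)
    haveI := h
    exact hz.1 (FormallyUnramified.stalkMap _ z)

end Groth.Agent.InfNbhdLib
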