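import Groth.Agent.LocFlat.Basic
import Groth.Agent.CAlgBasics.FlatMod

/-!
Flatness from flatness modulo all powers of an ideal.
-/

set_option autoImplicit false
universe u
open TensorProduct IsLocalRing

namespace Groth.Agent.InfNbhdLib

theorem flat_of_flat_quotient_pow {R S : Type u} [CommRing R] [CommRing S] [IsNoetherianRing R] [IsNoetherianRing S]
    [IsLocalRing R] [IsLocalRing S] [Algebra R S] [IsLocalHom (algebraMap R S)]
    {M : Type u} [AddCommGroup M] [Module R M] [Module S M] [IsScalarTower R S M] [Module.Finite S M]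
    (I : Ideal R) (hI : I ≤ maximalIdeal R)
    (h : ∀ n : ℕ, Module.Flat (R ⧸ I ^ n) ((R ⧸ I ^ n) ⊗[R] M)) : Module.Flat R M := by
  refine LocFlat.flat_of_forall_mem_range (S := S) I ((Ideal.map_mono hI).trans LocFlat.map_le_jacobson) fun J z hz n => ?_
  let Jb : Submodule (R ⧸ I ^ n) (R ⧸ I ^ n) := J.map (Ideal.Quotient.mk (I ^ n))
  haveI := h n
  let π : J →ₗ[R] Jb :=
    LinearMap.codRestrict (Jb.restrictScalars R) ((Ideal.Quotient.mkₐ R (I ^ n)).toLinearMap ∘ₗ J.subtype)
      fun a => Ideal.mem_map_of_mem _ a.2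
  have hπ : Function.Surjective π := by
    rintro ⟨y, hy⟩
    obtain ⟨a, ha, rfl⟩ := (Ideal.mem_map_iff_of_surjective _ Ideal.Quotient.mk_surjective).mp hy
    exact ⟨⟨a, ha⟩, rfl⟩
  have hex : Function.Exact (Submodule.inclusion (inf_le_left : J ⊓ I ^ n ≤ J)) π := by
    intro a
    constructor
    · intro h0
      exact ⟨⟨a.1, a.2, Ideal.Quotient.eq_zero_iff_mem.mp (congrArg Subtype.val h0)⟩, rfl⟩
    · rintro ⟨b, rfl⟩
      exact Subtype.ext (Ideal.Quotient.eq_zero_iff_mem.mpr b.2.2)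
  refine (lTensor_exact M hex hπ z).mp ?_
  have hinj : Function.Injective ((Jb.subtype.restrictScalars R).lTensor M) :=
    (LinearMap.lTensor_inj_iff_rTensor_inj _ _).mpr
      (CAlgBasics.rTensor_injective_of_flat_baseChange (R ⧸ I ^ n) M Jb.subtype Jb.subtype_injective)
  apply hinj
  rw [map_zero, ← LinearMap.lTensor_comp_apply,
    show Jb.subtype.restrictScalars R ∘ₗ π = (Ideal.Quotient.mkₐ R (I ^ n)).toLinearMap ∘ₗ J.subtype from rfl,
    LinearMap.lTensor_comp_apply, hz, map_zero]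

end Groth.Agent.InfNbhdLib
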